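import Groth.Agent.Lib.SymAlg.Unique
import Groth.Agent.Lib.TensorMod.Gen
import Groth.Agent.Lib.FEt.NormalCover
import Groth.Agent.Lib.Contraction.Normal
import Mathlib.RingTheory.Polynomial.Basic

/-!
# Integrality and normality of the spectrum of the sections on a line bundle
-/

set_option autoImplicit false
universe u

open CategoryTheory CategoryTheory.Limits AlgebraicGeometry TopologicalSpace Opposite
open scoped Polynomial

namespace Groth.Agent.H81.LineBundleNormal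

noncomputable section

open Groth.Agent.Lib

variable {X : Scheme.{u}} {L : X.Modules} {A : RelSpec.QCAlg X} {j : L ⟶ A.toModule}

open TensorMod in
/-- Near every point the line bundle is an affine line. -/
theorem exists_polynomial_equiv (hL : PicF.IsInvertible L) (hLq : Coh.IsQCoh L) (hA : RelSpec.IsSymAlg L A j)
    {x : X} {W : X.Opens} (hx : x ∈ W) :
    ∃ (V : X.Opens) (_ : IsAffineOpen V), x ∈ V ∧ V ≤ W ∧
      ∃ e : Γ(X, V)[X] ≃+* A.presheaf.obj (op V), ∀ r, e (Polynomial.C r) = (A.str.app (op V)).hom r := by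
  obtain ⟨U, e, hxU, he⟩ := Gen.isInvertible_iff.1 hL x
  obtain ⟨V, hV, hxV, hsub⟩ := exists_isAffineOpen_mem_and_subset (X := X) (x := x) (U := U ⊓ W) ⟨hxU, hx⟩
  haveI : L.IsQuasicoherent := hLq
  letI := SymAlg.Unique.algInst A V
  have hVU : V ≤ U := fun y hy => (hsub hy).1
  let eV : Γ(L, V) := L.presheaf.map (homOfLE hVU).op e
  let E : Γ(X, V) ≃ₗ[Γ(X, V)] Γ(L, V) :=
    LinearEquiv.ofBijective (LinearMap.toSpanSingleton _ _ eV) (he V hVU)
  let jl := SymAlg.Unique.jLin A j V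
  have hs := SymAlg.Unique.isSymmetricAlgebra hA hV
  let φ : Γ(L, V) →ₗ[Γ(X, V)] Γ(X, V)[X] :=
    (LinearMap.toSpanSingleton Γ(X, V) Γ(X, V)[X] Polynomial.X).comp E.symm.toLinearMap
  let F := hs.lift φ
  let G : Γ(X, V)[X] →ₐ[Γ(X, V)] A.presheaf.obj (op V) := Polynomial.aeval (jl eV)
  have hE : E 1 = eV := one_smul _ eV
  have hF : F (jl eV) = Polynomial.X := by
    rw [IsSymmetricAlgebra.lift_eq]
    show E.symm eV • (Polynomial.X : Γ(X, V)[X]) = Polynomial.X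
    rw [show E.symm eV = 1 from (LinearEquiv.symm_apply_eq _).2 hE.symm, one_smul]
  have h1 : F.comp G = AlgHom.id _ _ := Polynomial.algHom_ext (by simp [G, hF])
  have h2 : G.comp F = AlgHom.id _ _ := hs.algHom_ext (LinearMap.ext fun m => by
    obtain ⟨a, rfl⟩ := E.surjective m
    show G (F (jl (E a))) = jl (E a)
    rw [show E a = a • eV from rfl, map_smul, map_smul, hF, map_smul]
    simp [G])
  exact ⟨V, hV, hxV, fun y hy => (hsub hy).2, (AlgEquiv.ofAlgHom G F h2 h1).toRingEquiv,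
    fun r => (AlgEquiv.ofAlgHom G F h2 h1).commutes r⟩

/-- A scheme with a cover by integral opens meeting each other is integral. -/
theorem isIntegral_of_cover {Z : Scheme.{u}} [Nonempty Z] {ι : Type*} (U : ι → Z.Opens)
    (hcov : ∀ z, ∃ i, z ∈ U i) (hint : ∀ i, IsIntegral (U i : Scheme.{u}))
    (hmeet : ∀ i j, ((U i : Set Z) ∩ U j).Nonempty) : IsIntegral Z := by
  haveI : ∀ z : Z, _root_.IsReduced (Z.presheaf.stalk z) := fun z => by
    obtain ⟨i, hi⟩ := hcov z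
    haveI := hint i
    exact isReduced_of_injective ((U i).ι.stalkMap ⟨z, hi⟩).hom
      (ConcreteCategory.bijective_of_isIso ((U i).ι.stalkMap ⟨z, hi⟩)).1
  haveI : IsReduced Z := isReduced_of_isReduced_stalk _
  have hirr : ∀ i (O O' : Set Z), IsOpen O → IsOpen O' → (O ∩ U i).Nonempty → (O' ∩ U i).Nonempty →
      (O ∩ O' ∩ U i).Nonempty := by
    rintro i O O' hO hO' ⟨a, ha, ha'⟩ ⟨b, hb, hb'⟩
    haveI := hint i
    obtain ⟨z, hz, hz'⟩ := nonempty_preirreducible_inter (hO.preimage (U i).ι.continuous)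
      (hO'.preimage (U i).ι.continuous) ⟨⟨a, ha'⟩, ha⟩ ⟨⟨b, hb'⟩, hb⟩
    exact ⟨z.1, ⟨hz, hz'⟩, z.2⟩
  haveI : PreirreducibleSpace Z := by
    refine ⟨fun O O' hO hO' => ?_⟩
    rintro ⟨a, -, ha⟩ ⟨b, -, hb⟩
    obtain ⟨i, hi⟩ := hcov a
    obtain ⟨k, hk⟩ := hcov b
    obtain ⟨z, ⟨hz1, hz2⟩, -⟩ := hirr i O (U k) hO (U k).isOpen ⟨a, ha, hi⟩
      (by obtain ⟨w, hw, hw'⟩ := hmeet k i; exact ⟨w, hw, hw'⟩)
    obtain ⟨w, ⟨hw1, hw2⟩, -⟩ := hirr k O O' hO hO' ⟨z, hz1, hz2⟩ ⟨b, hb, hk⟩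
    exact ⟨w, trivial, hw1, hw2⟩
  haveI : IrreducibleSpace Z := { toNonempty := ‹Nonempty Z› }
  exact isIntegral_of_irreducibleSpace_of_isReduced _

theorem nonempty_preimage_π (hL : PicF.IsInvertible L) (hLq : Coh.IsQCoh L) (hA : RelSpec.IsSymAlg L A j)
    (x : X) : ∃ v : A.spec, A.π v = x := by
  obtain ⟨V, hV, hxV, -, e, he⟩ := exists_polynomial_equiv hL hLq hA (W := ⊤) (x := x) trivial
  obtain ⟨y, hy⟩ := hV.range_fromSpec.ge hxV
  let ev : A.presheaf.obj (op V) →+* Γ(X, V) := (Polynomial.evalRingHom 0).comp e.symm.toRingHom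
  have hev : ev.comp (A.str.app (op V)).hom = RingHom.id _ := RingHom.ext fun r => by
    show Polynomial.eval 0 (e.symm ((A.str.app (op V)).hom r)) = r
    rw [← he, RingEquiv.symm_apply_apply, Polynomial.eval_C]
  refine ⟨A.ι V hV (PrimeSpectrum.comap ev y), ?_⟩
  rw [← Scheme.Hom.comp_apply, A.ι_π, Scheme.Hom.comp_apply]
  change hV.fromSpec (PrimeSpectrum.comap (A.str.app (op V)).hom (PrimeSpectrum.comap ev y)) = x
  rw [← PrimeSpectrum.comap_comp_apply, hev, PrimeSpectrum.comap_id]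
  exact hy

theorem isIntegral_spec (hL : PicF.IsInvertible L) (hLq : Coh.IsQCoh L) (hA : RelSpec.IsSymAlg L A j)
    [IsIntegral X] : IsIntegral A.spec := by
  choose V hV hxV _ e he using fun x : X => exists_polynomial_equiv hL hLq hA (W := ⊤) (x := x) trivial
  haveI : Nonempty A.spec := ⟨(nonempty_preimage_π hL hLq hA (Classical.arbitrary X)).choose⟩
  refine isIntegral_of_cover (fun x => (A.ι (V x) (hV x)).opensRange) (fun v => ?_) (fun x => ?_) fun x y => ?_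
  · refine ⟨A.π v, ?_⟩
    rw [← A.π_preimage]
    exact hxV _
  · haveI : Nonempty (V x) := ⟨⟨x, hxV x⟩⟩
    haveI : IsDomain (A.presheaf.obj (op (V x))) := (e x).toMulEquiv.isDomain_iff.mp inferInstance
    exact IsIntegral.of_isIso (A.ι (V x) (hV x)).isoOpensRange.hom
  · obtain ⟨z, hz, hz'⟩ := nonempty_preirreducible_inter (V x).isOpen (V y).isOpen ⟨x, hxV x⟩ ⟨y, hxV y⟩
    obtain ⟨v, rfl⟩ := nonempty_preimage_π hL hLq hA z
    refine ⟨v, ?_, ?_⟩ <;> · rw [SetLike.mem_coe, ← A.π_preimage]; assumption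

theorem isIntegral_directImage {V Y : Scheme.{u}} (g : V ⟶ Y) [QuasiCompact g] [QuasiSeparated g]
    [IsIntegral V] : IsIntegral (RelSpec.QCAlg.directImage g).spec := by
  let C := RelSpec.QCAlg.directImage g
  have hne : ∀ (U : Y.Opens) (hU : IsAffineOpen U) (v : V), g v ∈ U →
      ∃ c : C.spec, C.π c ∈ U := fun U hU v hv => by
    haveI : Nonempty (g ⁻¹ᵁ U) := ⟨⟨v, hv⟩⟩
    haveI : Nontrivial (C.presheaf.obj (op U)) := inferInstanceAs (Nontrivial Γ(V, g ⁻¹ᵁ U))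
    let q : PrimeSpectrum (C.presheaf.obj (op U)) := Classical.arbitrary _
    refine ⟨C.ι U hU q, ?_⟩
    exact (C.π_preimage U hU).ge ⟨q, rfl⟩
  let I := {U : Y.affineOpens // ∃ v : V, g v ∈ U.1}
  haveI : Nonempty C.spec := by
    let v : V := Classical.arbitrary V
    obtain ⟨U, hU, hv, -⟩ := exists_isAffineOpen_mem_and_subset (U := ⊤) (x := g v) trivial
    exact ⟨(hne U hU v hv).choose⟩
  refine isIntegral_of_cover (ι := I) (fun U => (C.ι U.1.1 U.1.2).opensRange) (fun c => ?_) (fun U => ?_)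
    fun U U' => ?_
  · obtain ⟨U, hU, hcU, -⟩ := exists_isAffineOpen_mem_and_subset (U := ⊤) (x := C.π c) trivial
    obtain ⟨q, hq⟩ : c ∈ (C.ι U hU).opensRange := (C.π_preimage U hU).le hcU
    have : ∃ v : V, g v ∈ U := by
      by_contra h
      push Not at h
      have hbot : g ⁻¹ᵁ U = ⊥ := le_bot_iff.1 fun v hv => h v hv
      haveI : Subsingleton (C.presheaf.obj (op U)) := by
        change Subsingleton Γ(V, g ⁻¹ᵁ U)
        rw [hbot]; infer_instance
      exact q.isPrime.ne_top ((Ideal.eq_top_iff_one _).2 (by rw [Subsingleton.elim (1 : C.presheaf.obj (op U)) 0]; exact zero_mem _))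
    exact ⟨⟨⟨U, hU⟩, this⟩, q, hq⟩
  · obtain ⟨v, hv⟩ := U.2
    haveI : Nonempty (g ⁻¹ᵁ U.1.1) := ⟨⟨v, hv⟩⟩
    haveI : IsDomain (C.presheaf.obj (op U.1.1)) := inferInstanceAs (IsDomain Γ(V, g ⁻¹ᵁ U.1.1))
    exact IsIntegral.of_isIso (C.ι U.1.1 U.1.2).isoOpensRange.hom
  · obtain ⟨v, hv⟩ := U.2
    obtain ⟨v', hv'⟩ := U'.2
    obtain ⟨w, hw, hw'⟩ := nonempty_preirreducible_inter (g ⁻¹ᵁ U.1.1).isOpen (g ⁻¹ᵁ U'.1.1).isOpen
      ⟨v, hv⟩ ⟨v', hv'⟩
    obtain ⟨W, hW, hwW, hWsub⟩ := exists_isAffineOpen_mem_and_subset (U := U.1.1 ⊓ U'.1.1) (x := g w) ⟨hw, hw'⟩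
    obtain ⟨c, hc⟩ := hne W hW w hwW
    exact ⟨c, (C.π_preimage _ U.1.2).le (hWsub hc).1, (C.π_preimage _ U'.1.2).le (hWsub hc).2⟩

theorem isNormalScheme_spec_polynomial {R : Type u} [CommRing R] [IsDomain R] [IsIntegrallyClosed R] :
    Pi1.IsNormalScheme (Spec (CommRingCat.of R[X])) := fun P => by
  letI : Algebra R[X] ((Spec (CommRingCat.of R[X])).presheaf.stalk P) := StructureSheaf.stalkAlgebra R[X] P
  haveI : IsLocalization.AtPrime ((Spec (CommRingCat.of R[X])).presheaf.stalk P) P.asIdeal :=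
    StructureSheaf.IsLocalization.to_stalk R[X] P
  exact ⟨IsLocalization.isDomain_of_atPrime _ P.asIdeal,
    isIntegrallyClosed_of_isLocalization _ P.asIdeal.primeCompl P.asIdeal.primeCompl_le_nonZeroDivisors⟩

/-- Near every point the line bundle over a locally integral normal scheme is integral and normal. -/
theorem exists_integral_open (hL : PicF.IsInvertible L) (hLq : Coh.IsQCoh L) (hA : RelSpec.IsSymAlg L A j)
    (hX : ∀ x : X, ∃ U : X.Opens, x ∈ U ∧ IsIntegral (U : Scheme.{u})) (hn : Pi1.IsNormalScheme X) (v : A.spec) :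
    ∃ W : A.spec.Opens, v ∈ W ∧ IsIntegral (W : Scheme.{u}) ∧ Pi1.IsNormalScheme (W : Scheme.{u}) := by
  obtain ⟨U, hxU, hUi⟩ := hX (A.π v)
  obtain ⟨V, hV, hxV, hVU, e, -⟩ := exists_polynomial_equiv hL hLq hA hxU
  have hUn : Pi1.IsNormalScheme (U : Scheme.{u}) := fun x => by
    have e := (asIso (U.ι.stalkMap x)).commRingCatIsoToRingEquiv
    obtain ⟨h1, h2⟩ := hn (U.ι.base x)
    exact ⟨e.toMulEquiv.isDomain_iff.mp h1, IsIntegrallyClosed.of_equiv e⟩
  haveI : Nonempty (U.ι ⁻¹ᵁ V) := ⟨⟨⟨A.π v, hxU⟩, hxV⟩⟩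
  haveI := Contraction.isIntegrallyClosed_Γ hUn
    (hV.preimage_of_isOpenImmersion U.ι (by rwa [Scheme.Opens.opensRange_ι]))
  let eVU : Γ(X, V) ≃+* Γ((U : Scheme.{u}), U.ι ⁻¹ᵁ V) := by
    haveI : IsIso (U.ι.app V) := U.ι.isIso_app V (by rwa [Scheme.Opens.opensRange_ι])
    exact (asIso (U.ι.app V)).commRingCatIsoToRingEquiv
  haveI : IsDomain Γ(X, V) := eVU.toMulEquiv.isDomain_iff.mpr inferInstance
  haveI : IsIntegrallyClosed Γ(X, V) := IsIntegrallyClosed.of_equiv eVU.symm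
  let s : Spec (CommRingCat.of Γ(X, V)[X]) ⟶ A.spec :=
    Spec.map e.toCommRingCatIso.inv ≫ A.ι V hV
  haveI : IsOpenImmersion s := inferInstance
  refine ⟨s.opensRange, ?_, IsIntegral.of_isIso s.isoOpensRange.hom, fun w => ?_⟩
  · show v ∈ Set.range (Spec.map e.toCommRingCatIso.inv ≫ A.ι V hV).base
    obtain ⟨q, hq⟩ : v ∈ (A.ι V hV).opensRange := (A.π_preimage V hV).le hxV
    refine ⟨(asIso (Spec.map e.toCommRingCatIso.inv)).inv q, ?_⟩
    rw [Scheme.Hom.comp_apply, ← Scheme.Hom.comp_apply (asIso (Spec.map e.toCommRingCatIso.inv)).inv]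
    simp only [asIso_inv, IsIso.inv_hom_id]
    exact hq
  · let e' := (asIso (s.isoOpensRange.inv.stalkMap w)).commRingCatIsoToRingEquiv
    obtain ⟨h1, h2⟩ := isNormalScheme_spec_polynomial (R := Γ(X, V)) (s.isoOpensRange.inv.base w)
    exact ⟨e'.toMulEquiv.isDomain_iff.mp h1, IsIntegrallyClosed.of_equiv e'⟩

/-- The sections over a quasi-compact quasi-separated open of a locally integral normal scheme are normal. -/
theorem localization_sections_normal {V : Scheme.{u}}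
    (hV : ∀ v : V, ∃ W : V.Opens, v ∈ W ∧ IsIntegral (W : Scheme.{u}) ∧ Pi1.IsNormalScheme (W : Scheme.{u}))
    {O : V.Opens} (hc : IsCompact (O : Set V)) (hqs : IsQuasiSeparated (O : Set V))
    (P : Ideal Γ(V, O)) [P.IsPrime] (S : Type u) [CommRing S] [Algebra Γ(V, O) S] [IsLocalization.AtPrime S P] :
    IsDomain S ∧ IsIntegrallyClosed S := by
  classical
  choose W₀ hvW hWi hWn using hV
  let W : O → V.Opens := fun v => W₀ v.1 ⊓ O
  obtain ⟨t, ht⟩ := hc.elim_finite_subcover (fun v : O => (W v : Set V)) (fun v => (W v).isOpen)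
    (fun x hx => Set.mem_iUnion.2 ⟨⟨x, hx⟩, hvW x, hx⟩)
  have hWint : ∀ v : O, IsIntegral (W v : Scheme.{u}) := fun v => by
    haveI := hWi v.1
    haveI : Nonempty (W v : Scheme.{u}) := ⟨⟨v.1, hvW v.1, v.2⟩⟩
    exact isIntegral_of_isOpenImmersion (V.homOfLE (inf_le_left : W v ≤ W₀ v.1))
  have hirr : ∀ (v : O) (A B : V.Opens), ((A : Set V) ∩ W v).Nonempty → ((B : Set V) ∩ W v).Nonempty →
      ((A : Set V) ∩ B ∩ W v).Nonempty := by
    rintro v A B ⟨a, ha, ha'⟩ ⟨b, hb, hb'⟩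
    haveI := hWint v
    obtain ⟨z, hz, hz'⟩ := nonempty_preirreducible_inter (A.isOpen.preimage (W v).ι.continuous)
      (B.isOpen.preimage (W v).ι.continuous) ⟨⟨a, ha'⟩, ha⟩ ⟨⟨b, hb'⟩, hb⟩
    exact ⟨z.1, ⟨hz, hz'⟩, z.2⟩
  let R : t → t → Prop := fun k l => ((W k : Set V) ∩ W l).Nonempty
  have hR : ∀ {k l}, R k l → R l k := fun {k l} h => by
    show ((W l : Set V) ∩ W k).Nonempty
    rw [Set.inter_comm]
    exact h
  have hRt : ∀ {k l m}, R k l → R l m → R k m := fun {k l m} h h' => by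
    obtain ⟨z, hz, -⟩ := hirr l (W k) (W m) h (hR h')
    exact ⟨z, hz⟩
  let Z : t → V.Opens := fun k => ⨆ l : {l // R k l}, W l.1
  let Z' : t → V.Opens := fun k => ⨆ l : {l // ¬ R k l}, W l.1
  have hdisj : ∀ k, Z k ⊓ Z' k = ⊥ := fun k => le_bot_iff.1 fun x hx => by
    obtain ⟨l, hl⟩ := Opens.mem_iSup.1 hx.1
    obtain ⟨m, hm⟩ := Opens.mem_iSup.1 hx.2
    exact (m.2 (hRt l.2 ⟨x, hl, hm⟩)).elim
  have hWO : ∀ v : O, W v ≤ O := fun v => inf_le_right
  have hZO : ∀ k, Z k ≤ O := fun k => iSup_le fun l => hWO l.1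
  have hZ'O : ∀ k, Z' k ≤ O := fun k => iSup_le fun l => hWO l.1
  have hsup : ∀ k, Z k ⊔ Z' k = O := fun k => le_antisymm (sup_le (hZO k) (hZ'O k)) fun x hx => by
    obtain ⟨v, hv, hxv⟩ := Set.mem_iUnion₂.1 (ht hx)
    by_cases h : R k ⟨v, hv⟩
    · exact Or.inl (Opens.mem_iSup.2 ⟨⟨⟨v, hv⟩, h⟩, hxv⟩)
    · exact Or.inr (Opens.mem_iSup.2 ⟨⟨⟨v, hv⟩, h⟩, hxv⟩)
  have hidem : ∀ k, ∃ e : Γ(V, O), (V.presheaf.map (homOfLE (hZO k)).op).hom e = 1 ∧
      (V.presheaf.map (homOfLE (hZ'O k)).op).hom e = 0 := fun k => by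
    obtain ⟨s, hs, -⟩ := TopCat.Sheaf.existsUnique_gluing' V.sheaf (fun b : Bool => if b then Z k else Z' k) O
      (fun b => homOfLE (by cases b <;> simp [hZO, hZ'O]))
      (by rw [← hsup k]; exact sup_le (le_iSup_of_le true (by simp)) (le_iSup_of_le false (by simp)))
      (fun b => if b then 1 else 0) (by
        intro b b'
        rcases b with _ | _ <;> rcases b' with _ | _
        · rfl
        · haveI : Subsingleton Γ(V, Z' k ⊓ Z k) := by rw [inf_comm, hdisj k]; infer_instance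
          exact Subsingleton.elim (α := Γ(V, Z' k ⊓ Z k)) _ _
        · haveI : Subsingleton Γ(V, Z k ⊓ Z' k) := by rw [hdisj k]; infer_instance
          exact Subsingleton.elim (α := Γ(V, Z k ⊓ Z' k)) _ _
        · rfl)
    exact ⟨s, hs true, hs false⟩
  choose e he1 he0 using hidem
  obtain ⟨k, hk⟩ : ∃ k, e k ∉ P := by
    by_contra h
    push Not at h
    have hz : ∏ k, (1 - e k) = 0 := by
      refine TopCat.Sheaf.eq_of_locally_eq' V.sheaf (fun k : t => W k.1) O (fun k => homOfLE (hWO k.1))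
        (fun x hx => ?_) _ _ fun k => ?_
      · obtain ⟨v, hv, hxv⟩ := Set.mem_iUnion₂.1 (ht hx)
        exact Opens.mem_iSup.2 ⟨⟨v, hv⟩, hxv⟩
      · change (V.presheaf.map (homOfLE (hWO k.1)).op).hom _ = (V.presheaf.map (homOfLE (hWO k.1)).op).hom 0
        rw [map_zero, map_prod]
        refine Finset.prod_eq_zero (Finset.mem_univ k) ?_
        have hle : W k.1 ≤ Z k := le_iSup_of_le (⟨k, ⟨k.1.1, ⟨hvW _, k.1.2⟩, hvW _, k.1.2⟩⟩ : {l // R k l}) le_rfl
        have : (V.presheaf.map (homOfLE (hWO k.1)).op).hom (e k) = 1 := by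
          rw [show (homOfLE (hWO k.1)).op = (homOfLE (hZO k)).op ≫ (homOfLE hle).op from rfl, Functor.map_comp,
            CommRingCat.hom_comp, RingHom.comp_apply, he1, map_one]
        rw [map_sub, map_one, this, sub_self]
    obtain ⟨k, -, hk⟩ := (Ideal.IsPrime.prod_mem_iff (s := Finset.univ) (x := fun k => 1 - e k) (p := P)).1
      (hz ▸ P.zero_mem)
    exact ‹P.IsPrime›.ne_top ((Ideal.eq_top_iff_one _).2 (by simpa using P.add_mem hk (h k)))
  have hb : V.basicOpen (e k) = Z k := by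
    refine le_antisymm (fun x hx => ?_) fun x hx => ?_
    · have hxO : x ∈ O := V.basicOpen_le _ hx
      rw [← hsup k] at hxO
      refine hxO.resolve_right fun h0 => ?_
      have : x ∈ V.basicOpen ((V.presheaf.map (homOfLE (hZ'O k)).op).hom (e k)) := by
        rw [Scheme.basicOpen_res]; exact ⟨h0, hx⟩
      rw [he0, Scheme.basicOpen_zero] at this
      exact this
    · have : x ∈ V.basicOpen ((V.presheaf.map (homOfLE (hZO k)).op).hom (e k)) := by
        rw [he1, Scheme.basicOpen_of_isUnit _ isUnit_one]; exact hx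
      rw [Scheme.basicOpen_res] at this
      exact this.2
  haveI : IsIntegral (Z k : Scheme.{u}) := by
    haveI : Nonempty (Z k : Scheme.{u}) :=
      ⟨⟨k.1.1, Opens.mem_iSup.2 ⟨⟨k, ⟨k.1.1, ⟨hvW _, k.1.2⟩, hvW _, k.1.2⟩⟩, hvW _, k.1.2⟩⟩⟩
    refine isIntegral_of_cover (fun l : {l // R k l} => (Z k).ι ⁻¹ᵁ W l.1) (fun z => ?_) (fun l => ?_) fun l m => ?_
    · obtain ⟨l, hl⟩ := Opens.mem_iSup.1 z.2
      exact ⟨l, hl⟩
    · haveI := hWint l.1.1
      have hle : W l.1 ≤ Z k := le_iSup_of_le l le_rfl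
      haveI : Nonempty ((Z k).ι ⁻¹ᵁ W l.1 : Scheme.{u}) := ⟨⟨⟨l.1.1.1, hle ⟨hvW _, l.1.1.2⟩⟩, hvW _, l.1.1.2⟩⟩
      exact isIntegral_of_isOpenImmersion ((Z k).ι ∣_ W l.1)
    · obtain ⟨z, hz, hz'⟩ := hRt (hR l.2) m.2
      exact ⟨⟨z, Opens.mem_iSup.2 ⟨l, hz⟩⟩, hz, hz'⟩
  have hZn : Pi1.IsNormalScheme (Z k : Scheme.{u}) := fun z => by
    let v : W₀ z.1 := ⟨z.1, hvW z.1⟩
    obtain ⟨h1, h2⟩ := hWn z.1 v
    have e1 := (asIso ((W₀ z.1).ι.stalkMap v)).commRingCatIsoToRingEquiv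
    have e2 := (asIso ((Z k).ι.stalkMap z)).commRingCatIsoToRingEquiv
    have e3 := e1.symm.trans e2
    exact ⟨e3.toMulEquiv.isDomain_iff.mp h1, IsIntegrallyClosed.of_equiv e3⟩
  haveI : IsIntegrallyClosed Γ((Z k : Scheme.{u}), ⊤) := by
    haveI : Nonempty (⊤ : (Z k : Scheme.{u}).Opens) := ⟨⟨Classical.arbitrary _, trivial⟩⟩
    exact FEt.NormalCover.isIntegrallyClosed_sections hZn
  let eZ : Γ((Z k : Scheme.{u}), ⊤) ≃+* Γ(V, V.basicOpen (e k)) :=
    (Z k).topIso.commRingCatIsoToRingEquiv.trans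
      (V.presheaf.mapIso (eqToIso hb).op).commRingCatIsoToRingEquiv
  haveI : IsDomain Γ(V, V.basicOpen (e k)) := eZ.toMulEquiv.isDomain_iff.mp inferInstance
  haveI : IsIntegrallyClosed Γ(V, V.basicOpen (e k)) := IsIntegrallyClosed.of_equiv eZ
  letI : Algebra Γ(V, O) Γ(V, V.basicOpen (e k)) :=
    (V.presheaf.map (homOfLE (V.basicOpen_le (e k))).op).hom.toAlgebra
  haveI : IsLocalization.Away (e k) Γ(V, V.basicOpen (e k)) :=
    isLocalization_basicOpen_of_qcqs hc hqs (e k)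
  have hd : Disjoint (Submonoid.powers (e k) : Set Γ(V, O)) P :=
    Set.disjoint_left.2 fun y hy hy' => (Submonoid.powers_le.2 hk : _ ≤ P.primeCompl) hy hy'
  let B := Γ(V, V.basicOpen (e k))
  let Q := P.map (algebraMap Γ(V, O) B)
  haveI : Q.IsPrime := IsLocalization.isPrime_of_isPrime_disjoint (Submonoid.powers (e k)) B P inferInstance hd
  have hcomap : Q.comap (algebraMap Γ(V, O) B) = P :=
    IsLocalization.under_map_of_isPrime_disjoint (Submonoid.powers (e k)) B inferInstance hd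
  let T := Localization.AtPrime Q
  haveI : IsLocalization.AtPrime T (Q.comap (algebraMap Γ(V, O) B)) :=
    IsLocalization.isLocalization_isLocalization_atPrime_isLocalization (Submonoid.powers (e k)) T Q
  have key : ∀ (P' : Ideal Γ(V, O)) [P'.IsPrime] [IsLocalization.AtPrime T P'], P' = P →
      Nonempty (T ≃+* S) := by
    rintro P' _ _ rfl
    exact ⟨(IsLocalization.algEquiv P'.primeCompl T S).toRingEquiv⟩
  obtain ⟨eT⟩ := key _ hcomap
  haveI : IsDomain T := IsLocalization.isDomain_of_atPrime T Q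
  haveI : IsIntegrallyClosed T := isIntegrallyClosed_of_isLocalization T Q.primeCompl Q.primeCompl_le_nonZeroDivisors
  exact ⟨eT.toMulEquiv.isDomain_iff.mp inferInstance, IsIntegrallyClosed.of_equiv eT⟩

theorem isNormalScheme_directImage {V Y : Scheme.{u}} (g : V ⟶ Y) [QuasiCompact g] [QuasiSeparated g]
    (hV : ∀ v : V, ∃ W : V.Opens, v ∈ W ∧ IsIntegral (W : Scheme.{u}) ∧ Pi1.IsNormalScheme (W : Scheme.{u})) :
    Pi1.IsNormalScheme (RelSpec.QCAlg.directImage g).spec := by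
  intro c
  let C := RelSpec.QCAlg.directImage g
  obtain ⟨U, hU, hcU, -⟩ := exists_isAffineOpen_mem_and_subset (U := ⊤) (x := C.π c) trivial
  obtain ⟨q, rfl⟩ : c ∈ (C.ι U hU).opensRange := (C.π_preimage U hU).le hcU
  let R := C.presheaf.obj (op U)
  have e1 := (asIso ((C.ι U hU).stalkMap q)).commRingCatIsoToRingEquiv
  letI : Algebra R ((Spec R).presheaf.stalk q) := StructureSheaf.stalkAlgebra R q
  haveI : IsLocalization.AtPrime ((Spec R).presheaf.stalk q) q.asIdeal := StructureSheaf.IsLocalization.to_stalk R q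
  obtain ⟨h1, h2⟩ := @localization_sections_normal V hV (g ⁻¹ᵁ U) (g.isCompact_preimage hU.isCompact)
    (g.isQuasiSeparated_preimage hU.isQuasiSeparated) q.asIdeal (PrimeSpectrum.isPrime q)
    ((Spec R).presheaf.stalk q) _ (StructureSheaf.stalkAlgebra R q) (StructureSheaf.IsLocalization.to_stalk R q)
  exact ⟨e1.toMulEquiv.isDomain_iff.mpr h1, @IsIntegrallyClosed.of_equiv _ _ _ _ e1.symm h2⟩

end

end Groth.Agent.H81.LineBundleNormal
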